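import Mathlib

/-!
# Representability of algebra maps into a finite free algebra with varying coefficients
-/

set_option autoImplicit false

universe u

open scoped TensorProduct

namespace Groth.Agent.HomAff

theorem coeff_map {k : Type u} [Field k] {A R R' : Type u} [CommRing A] [Algebra k A] [CommRing R] [Algebra k R]
    [CommRing R'] [Algebra k R'] (g : R →ₐ[k] R') {ι : Type*} [DecidableEq ι] (b : Module.Basis ι k A) (d : A ⊗[k] R) (i : ι) :
    TensorProduct.equivFinsuppOfBasisLeft b (Algebra.TensorProduct.map (AlgHom.id k A) g d) i =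
      g (TensorProduct.equivFinsuppOfBasisLeft b d i) := by
  induction d using TensorProduct.induction_on with
  | zero => simp
  | tmul r a => simp [map_smul]
  | add p q hp hq => simp [hp, hq]

theorem coeff_sum {k : Type u} [Field k] {A R : Type u} [CommRing A] [Algebra k A] [CommRing R] [Algebra k R]
    {ι : Type*} [Fintype ι] [DecidableEq ι] (b : Module.Basis ι k A) (f : ι → R) (i : ι) :
    TensorProduct.equivFinsuppOfBasisLeft b (∑ j, b j ⊗ₜ[k] f j) i = f i := by
  rw [map_sum, Finsupp.finsetSum_apply, Finset.sum_eq_single i]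
  · simp
  · intro j _ hj; simp [Finsupp.single_eq_of_ne hj.symm]
  · simp

/-- A representing algebra is of finite type if the source is. -/
theorem finiteType_of_universal {k : Type u} [Field k] {A B W : Type u} [CommRing A] [Algebra k A] [CommRing B]
    [Algebra k B] [CommRing W] [Algebra k W] {ι : Type*} [Fintype ι] [DecidableEq ι] (b : Module.Basis ι k A)
    (φ : B →ₐ[k] A ⊗[k] W)
    (huniv : ∀ (R : Type u) [CommRing R] [Algebra k R] (ψ : B →ₐ[k] A ⊗[k] R),
      ∃! g : W →ₐ[k] R, (Algebra.TensorProduct.map (AlgHom.id k A) g).comp φ = ψ)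
    (hB : Algebra.FiniteType k B) : Algebra.FiniteType k W := by
  classical
  obtain ⟨s, hs⟩ := hB.1
  let gen : Finset W := (s ×ˢ Finset.univ).image fun p : B × ι =>
    TensorProduct.equivFinsuppOfBasisLeft b (φ p.1) p.2
  let W' : Subalgebra k W := Algebra.adjoin k (gen : Set W)
  let j := Algebra.TensorProduct.map (AlgHom.id k A) W'.val
  have hj : Function.Injective j := fun x y h => by
    refine (TensorProduct.equivFinsuppOfBasisLeft b).injective (Finsupp.ext fun i => Subtype.ext ?_)
    exact ((coeff_map W'.val b x i).symm.trans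
      (congrArg (fun z => TensorProduct.equivFinsuppOfBasisLeft b z i) h)).trans (coeff_map W'.val b y i)
  have hrange : ∀ x, φ x ∈ j.range := by
    have : (⊤ : Subalgebra k B) ≤ j.range.comap φ := by
      rw [← hs, Algebra.adjoin_le_iff]
      intro x hx
      refine ⟨∑ i, b i ⊗ₜ ⟨TensorProduct.equivFinsuppOfBasisLeft b (φ x) i, Algebra.subset_adjoin
        (Finset.mem_coe.2 (Finset.mem_image.2 ⟨(x, i), Finset.mem_product.2 ⟨hx, Finset.mem_univ _⟩, rfl⟩))⟩, ?_⟩
      refine (TensorProduct.equivFinsuppOfBasisLeft b).injective (Finsupp.ext fun i => ?_)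
      refine (coeff_map W'.val b _ i).trans ?_
      rw [coeff_sum]
      rfl
    exact fun x => this Algebra.mem_top
  let ψ : B →ₐ[k] A ⊗[k] W' := (AlgEquiv.ofInjective j hj).symm.toAlgHom.comp (φ.codRestrict j.range hrange)
  have hψ : j.comp ψ = φ := AlgHom.ext fun x => congrArg Subtype.val
    ((AlgEquiv.ofInjective j hj).apply_symm_apply ⟨φ x, hrange x⟩)
  obtain ⟨g, hg, -⟩ := huniv W' ψ
  have hid : W'.val.comp g = AlgHom.id k W := (huniv W φ).unique (by
    rw [show Algebra.TensorProduct.map (AlgHom.id k A) (W'.val.comp g) =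
      j.comp (Algebra.TensorProduct.map (AlgHom.id k A) g) by rw [← Algebra.TensorProduct.map_comp, AlgHom.comp_id],
      AlgHom.comp_assoc, hg, hψ]) (by rw [Algebra.TensorProduct.map_id, AlgHom.id_comp])
  exact ⟨⟨gen, eq_top_iff.2 fun w _ => by
    rw [show w = W'.val (g w) from (DFunLike.congr_fun hid w).symm]
    exact (g w).2⟩⟩

/-- The functor `R ↦ Hom(B, A ⊗ R)` is representable for a finite-dimensional algebra `A`. -/
theorem exists_repr {k : Type u} [Field k] (A B : Type u) [CommRing A] [Algebra k A] [Module.Finite k A]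
    [CommRing B] [Algebra k B] :
    ∃ (W : Type u) (_ : CommRing W) (_ : Algebra k W) (φ : B →ₐ[k] A ⊗[k] W),
      (∀ (R : Type u) [CommRing R] [Algebra k R] (ψ : B →ₐ[k] A ⊗[k] R),
        ∃! g : W →ₐ[k] R, (Algebra.TensorProduct.map (AlgHom.id k A) g).comp φ = ψ) ∧
      (Algebra.FiniteType k B → Algebra.FiniteType k W) := by
  classical
  let b := Module.finBasis k A
  let n := Module.finrank k A
  let P := MvPolynomial (B × Fin n) k
  let φ₀ : B → A ⊗[k] P := fun x => ∑ i, b i ⊗ₜ MvPolynomial.X (x, i)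
  let rel : Set (A ⊗[k] P) := Set.range (fun p : B × B => φ₀ (p.1 * p.2) - φ₀ p.1 * φ₀ p.2) ∪
    Set.range (fun p : B × B => φ₀ (p.1 + p.2) - (φ₀ p.1 + φ₀ p.2)) ∪
    Set.range (fun c : k => φ₀ (algebraMap k B c) - algebraMap k (A ⊗[k] P) c)
  let I : Ideal P := Ideal.span (⋃ i, (fun d => TensorProduct.equivFinsuppOfBasisLeft b d i) '' rel)
  let π : P →ₐ[k] P ⧸ I := Ideal.Quotient.mkₐ k I
  have hπ : ∀ d ∈ rel, Algebra.TensorProduct.map (AlgHom.id k A) π d = 0 := fun d hd => by
    refine (TensorProduct.equivFinsuppOfBasisLeft b).injective (Finsupp.ext fun i => ?_)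
    rw [coeff_map, map_zero, Finsupp.zero_apply]
    exact Ideal.Quotient.eq_zero_iff_mem.2 (Ideal.subset_span (Set.mem_iUnion.2 ⟨i, d, hd, rfl⟩))
  let φ' : B → A ⊗[k] (P ⧸ I) := fun x => Algebra.TensorProduct.map (AlgHom.id k A) π (φ₀ x)
  have hmul : ∀ x y, φ' (x * y) = φ' x * φ' y := fun x y => by
    have := hπ _ (Or.inl (Or.inl ⟨(x, y), rfl⟩))
    rwa [map_sub, sub_eq_zero, map_mul] at this
  have hadd : ∀ x y, φ' (x + y) = φ' x + φ' y := fun x y => by
    have := hπ _ (Or.inl (Or.inr ⟨(x, y), rfl⟩))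
    rwa [map_sub, sub_eq_zero, map_add] at this
  have halg : ∀ c : k, φ' (algebraMap k B c) = algebraMap k _ c := fun c => by
    have := hπ _ (Or.inr ⟨c, rfl⟩)
    rwa [map_sub, sub_eq_zero, AlgHom.commutes] at this
  have h1 : φ' 1 = 1 := by rw [← map_one (algebraMap k B), halg, map_one]
  have h0 : φ' 0 = 0 := by rw [← map_zero (algebraMap k B), halg, map_zero]
  let φ : B →ₐ[k] A ⊗[k] (P ⧸ I) :=
    { toFun := φ', map_one' := h1, map_mul' := hmul, map_zero' := h0, map_add' := hadd, commutes' := halg }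
  have hcoef : ∀ (x : B) (i : Fin n), TensorProduct.equivFinsuppOfBasisLeft b (φ x) i = π (MvPolynomial.X (x, i)) := by
    intro x i
    show TensorProduct.equivFinsuppOfBasisLeft b (Algebra.TensorProduct.map (AlgHom.id k A) π (φ₀ x)) i = _
    rw [coeff_map]
    simp only [φ₀, coeff_sum]
  have huniq : ∀ (R : Type u) [CommRing R] [Algebra k R] (g g' : (P ⧸ I) →ₐ[k] R),
      (Algebra.TensorProduct.map (AlgHom.id k A) g).comp φ = (Algebra.TensorProduct.map (AlgHom.id k A) g').comp φ →
      g = g' := fun R _ _ g g' h => by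
    refine Ideal.Quotient.algHom_ext k (MvPolynomial.algHom_ext fun ⟨x, i⟩ => ?_)
    have := congrArg (fun f => TensorProduct.equivFinsuppOfBasisLeft b (f x) i) h
    simp only [AlgHom.comp_apply, coeff_map, hcoef] at this
    exact this
  suffices hex : ∀ (R : Type u) [CommRing R] [Algebra k R] (ψ : B →ₐ[k] A ⊗[k] R),
      ∃! g : (P ⧸ I) →ₐ[k] R, (Algebra.TensorProduct.map (AlgHom.id k A) g).comp φ = ψ from
    ⟨P ⧸ I, inferInstance, inferInstance, φ, hex, finiteType_of_universal b φ hex⟩
  intro R _ _ ψ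
  · let ev : P →ₐ[k] R := MvPolynomial.aeval fun p => TensorProduct.equivFinsuppOfBasisLeft b (ψ p.1) p.2
    have hev : ∀ x, Algebra.TensorProduct.map (AlgHom.id k A) ev (φ₀ x) = ψ x := fun x => by
      refine (TensorProduct.equivFinsuppOfBasisLeft b).injective (Finsupp.ext fun i => ?_)
      rw [coeff_map]
      simp only [φ₀, coeff_sum]
      exact MvPolynomial.aeval_X _ _
    have hI : ∀ a ∈ I, ev a = 0 := by
      have : I ≤ RingHom.ker ev.toRingHom := by
        refine Ideal.span_le.2 ?_
        rintro _ hy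
        obtain ⟨i, d, hd, rfl⟩ := Set.mem_iUnion.1 hy
        show ev (TensorProduct.equivFinsuppOfBasisLeft b d i) = 0
        rw [← coeff_map]
        suffices Algebra.TensorProduct.map (AlgHom.id k A) ev d = 0 by rw [this, map_zero, Finsupp.zero_apply]
        rcases hd with (⟨p, rfl⟩ | ⟨p, rfl⟩) | ⟨c, rfl⟩
        · simp [map_sub, map_mul, hev]
        · simp [map_sub, map_add, hev]
        · simp [map_sub, hev]
      exact fun a ha => this ha
    refine ⟨Ideal.Quotient.liftₐ I ev hI, AlgHom.ext fun x => ?_, fun g hg => ?_⟩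
    · show Algebra.TensorProduct.map (AlgHom.id k A) _ (Algebra.TensorProduct.map (AlgHom.id k A) π (φ₀ x)) = _
      rw [← AlgHom.comp_apply, ← Algebra.TensorProduct.map_comp, AlgHom.comp_id,
        show (Ideal.Quotient.liftₐ I ev hI).comp π = ev from AlgHom.ext fun _ => rfl, hev]
    · refine huniq R _ _ (hg.trans (AlgHom.ext fun x => ?_))
      show _ = Algebra.TensorProduct.map (AlgHom.id k A) _ (Algebra.TensorProduct.map (AlgHom.id k A) π (φ₀ x))
      rw [← AlgHom.comp_apply, ← Algebra.TensorProduct.map_comp, AlgHom.comp_id,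
        show (Ideal.Quotient.liftₐ I ev hI).comp π = ev from AlgHom.ext fun _ => rfl, hev]

end Groth.Agent.HomAff
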