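import Groth.Agent.HomAffLib.Sections
import Groth.Agent.HomAffLib.Repr

/-!
# The scheme of morphisms from a scheme with finite global functions to an affine scheme
-/

set_option autoImplicit false

universe u

open CategoryTheory CategoryTheory.Limits MonoidalCategory CartesianMonoidalCategory AlgebraicGeometry
open scoped TensorProduct

noncomputable section

namespace Groth.Agent.HomAff

variable {k : Type u} [Field k]

/-- Global functions of a `k`-scheme. -/
def Gam (Q : Over (Spec (CommRingCat.of k))) : Type u := Γ(Q.left, ⊤)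

instance (Q : Over (Spec (CommRingCat.of k))) : CommRing (Gam Q) := inferInstanceAs (CommRing Γ(Q.left, ⊤))

instance (Q : Over (Spec (CommRingCat.of k))) : Algebra k (Gam Q) :=
  (Q.hom.appTop.hom.comp (Scheme.ΓSpecIso (CommRingCat.of k)).inv.hom).toAlgebra

/-- Pullback of global functions. -/
def gmap {Q Q' : Over (Spec (CommRingCat.of k))} (f : Q ⟶ Q') : Gam Q' →ₐ[k] Gam Q where
  __ := f.left.appTop.hom
  commutes' r := by
    show f.left.appTop (Q'.hom.appTop ((Scheme.ΓSpecIso (CommRingCat.of k)).inv r)) =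
      Q.hom.appTop ((Scheme.ΓSpecIso (CommRingCat.of k)).inv r)
    rw [← Over.w f, Scheme.Hom.comp_appTop]
    rfl

theorem gmap_comp {Q Q' Q'' : Over (Spec (CommRingCat.of k))} (f : Q ⟶ Q') (g : Q' ⟶ Q'') :
    gmap (f ≫ g) = (gmap f).comp (gmap g) :=
  AlgHom.ext fun x => by
    show (f ≫ g).left.appTop x = f.left.appTop (g.left.appTop x)
    rw [Over.comp_left, Scheme.Hom.comp_appTop]
    rfl

theorem gmap_bijective (Q Z : Over (Spec (CommRingCat.of k))) [IsAffine Z.left] :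
    Function.Bijective (gmap : (Q ⟶ Z) → (Gam Z →ₐ[k] Gam Q)) := by
  constructor
  · intro f g h
    refine Over.OverMorphism.ext (ext_of_isAffine ?_)
    ext x
    exact DFunLike.congr_fun h x
  · intro h
    let m : Q.left ⟶ Z.left := Q.left.toSpecΓ ≫ Spec.map (CommRingCat.ofHom h.toRingHom) ≫ Z.left.isoSpec.inv
    have hm : m.appTop = CommRingCat.ofHom (R := Γ(Z.left, ⊤)) (S := Γ(Q.left, ⊤)) h.toRingHom := by
      have h1 : Z.left.isoSpec.inv.appTop ≫ (Scheme.ΓSpecIso _).hom = 𝟙 Γ(Z.left, ⊤) := by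
        rw [← Scheme.toSpecΓ_appTop, ← Scheme.Hom.comp_appTop, Scheme.toSpecΓ_isoSpec_inv, Scheme.Hom.id_appTop]
      simp only [m, Scheme.Hom.comp_appTop, Scheme.toSpecΓ_appTop, Category.assoc, Scheme.ΓSpecIso_naturality]
      exact ((Category.assoc _ _ _).symm.trans (congrArg (· ≫ _) h1)).trans (Category.id_comp _)
    have hw : m ≫ Z.hom = Q.hom := by
      refine ext_of_isAffine ?_
      rw [Scheme.Hom.comp_appTop, hm, ← cancel_epi (Scheme.ΓSpecIso (CommRingCat.of k)).inv]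
      ext r
      exact h.commutes r
    exact ⟨Over.homMk m hw, AlgHom.ext fun x => congrArg (fun φ : Γ(Z.left, ⊤) ⟶ Γ(Q.left, ⊤) => φ x) hm⟩

/-- The comparison map on functions of a product. -/
def theta (X Q : Over (Spec (CommRingCat.of k))) : Gam X ⊗[k] Gam Q →ₐ[k] Gam (X ⊗ Q) :=
  Algebra.TensorProduct.lift (gmap (fst X Q)) (gmap (snd X Q)) fun _ _ => Commute.all _ _

theorem theta_natural (X : Over (Spec (CommRingCat.of k))) {S Q : Over (Spec (CommRingCat.of k))} (g : S ⟶ Q) :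
    (gmap (X ◁ g)).comp (theta X Q) =
      (theta X S).comp (Algebra.TensorProduct.map (AlgHom.id k (Gam X)) (gmap g)) := by
  refine Algebra.TensorProduct.ext ?_ ?_
  · ext a
    have h := DFunLike.congr_fun (gmap_comp (X ◁ g) (fst X Q)) a
    rw [whiskerLeft_fst] at h
    simpa [theta] using h.symm
  · ext a
    have h := DFunLike.congr_fun (gmap_comp (X ◁ g) (snd X Q)) a
    rw [whiskerLeft_snd, gmap_comp] at h
    simpa [theta] using h.symm

theorem theta_bijective (X S : Over (Spec (CommRingCat.of k))) [CompactSpace ↥X.left] [IsAffine S.left] :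
    Function.Bijective (theta X S) := by
  have hF : IsField Γ(Spec (CommRingCat.of k), ⊤) :=
    (Scheme.ΓSpecIso (CommRingCat.of k)).commRingCatIsoToRingEquiv.toMulEquiv.isField (Field.toIsField k)
  have H : IsPullback (fst X S).left (snd X S).left X.hom S.hom := IsPullback.of_hasPullback _ _
  have : Flat S.hom := inferInstance
  have hP := (isIso_pushoutSection_iff H (US := ⊤) (UT := ⊤) (UX := ⊤) le_top le_top (UY := ⊤) (by simp)).1
    (isIso_pushoutSection_of_field H _ _ _ (isAffineOpen_top _) (isAffineOpen_top _) isCompact_univ hF)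
  have hT : ∀ {A B : Scheme.{u}} (f : A ⟶ B) (h : (⊤ : A.Opens) ≤ f ⁻¹ᵁ ⊤), f.appLE ⊤ ⊤ h = f.appTop :=
    fun f _ => f.appLE_eq_app
  simp only [hT] at hP
  have hP' : IsPushout (CommRingCat.ofHom (algebraMap k (Gam X))) (CommRingCat.ofHom (algebraMap k (Gam S)))
      (CommRingCat.ofHom (gmap (fst X S)).toRingHom) (CommRingCat.ofHom (gmap (snd X S)).toRingHom) := by
    refine hP.of_iso (Scheme.ΓSpecIso (CommRingCat.of k)) (Iso.refl _) (Iso.refl _) (Iso.refl _) ?_ ?_ ?_ ?_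
    · show X.hom.appTop ≫ 𝟙 Γ(X.left, ⊤) =
        (Scheme.ΓSpecIso (CommRingCat.of k)).hom ≫ ((Scheme.ΓSpecIso (CommRingCat.of k)).inv ≫ X.hom.appTop)
      rw [Iso.hom_inv_id_assoc, Category.comp_id]
    · show S.hom.appTop ≫ 𝟙 Γ(S.left, ⊤) =
        (Scheme.ΓSpecIso (CommRingCat.of k)).hom ≫ ((Scheme.ΓSpecIso (CommRingCat.of k)).inv ≫ S.hom.appTop)
      rw [Iso.hom_inv_id_assoc, Category.comp_id]
    · rfl
    · rfl
  let e := (CommRingCat.isPushout_tensorProduct k (Gam X) (Gam S)).isoIsPushout _ _ hP'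
  have he : e.hom = CommRingCat.ofHom (theta X S).toRingHom := by
    refine (CommRingCat.isPushout_tensorProduct k (Gam X) (Gam S)).hom_ext ?_ ?_
    · rw [IsPushout.inl_isoIsPushout_hom]
      ext a; simp [theta]
    · rw [IsPushout.inr_isoIsPushout_hom]
      ext a; simp [theta]
  have := e.commRingCatIsoToRingEquiv.bijective
  change Function.Bijective e.hom at this
  rwa [he] at this

variable (X : Over (Spec (CommRingCat.of k))) [CompactSpace ↥X.left] {M Z : Over (Spec (CommRingCat.of k))}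
  [IsAffine M.left] [IsAffine Z.left] (ev : X ⊗ M ⟶ Z)

omit [CompactSpace ↥X.left] [IsAffine M.left] [IsAffine Z.left] in
/-- Morphisms out of a product are determined on a cover of the second factor. -/
theorem prod_hom_ext {S : Over (Spec (CommRingCat.of k))} (𝒰 : S.left.OpenCover) {f f' : X ⊗ S ⟶ Z}
    (h : ∀ i, (X ◁ (Over.homMk (𝒰.f i) : Over.mk (𝒰.f i ≫ S.hom) ⟶ S)) ≫ f =
      (X ◁ (Over.homMk (𝒰.f i) : Over.mk (𝒰.f i ≫ S.hom) ⟶ S)) ≫ f') : f = f' := by
  refine Over.OverMorphism.ext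
    ((Scheme.Pullback.openCoverOfRight 𝒰 X.hom S.hom).hom_ext _ _ fun (i : 𝒰.I₀) => ?_)
  let u : Over.mk (𝒰.f i ≫ S.hom) ⟶ S := Over.homMk (𝒰.f i)
  have he : (Scheme.Pullback.openCoverOfRight 𝒰 X.hom S.hom).f i = (X ◁ u).left := by
    apply pullback.hom_ext
    · exact (pullback.lift_fst _ _ _).trans
        ((Category.comp_id _).trans (Over.whiskerLeft_left_fst (R := X) u).symm)
    · exact (pullback.lift_snd _ _ _).trans (Over.whiskerLeft_left_snd (R := X) u).symm
  rw [he]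
  exact congrArg (fun t => t.left) (h i)

omit [CompactSpace ↥X.left] [IsAffine M.left] [IsAffine Z.left] in
/-- Uniqueness on affines gives uniqueness everywhere. -/
theorem hom_ext_of_affine
    (h : ∀ (S : Over (Spec (CommRingCat.of k))), IsAffine S.left → ∀ f : X ⊗ S ⟶ Z, ∃! g : S ⟶ M, (X ◁ g) ≫ ev = f)
    {S : Over (Spec (CommRingCat.of k))} (𝒰 : S.left.OpenCover) [∀ i, IsAffine (𝒰.X i)] {g g' : S ⟶ M}
    (hg : (X ◁ g) ≫ ev = (X ◁ g') ≫ ev) : g = g' := by
  refine Over.OverMorphism.ext (𝒰.hom_ext _ _ fun i => ?_)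
  let u : Over.mk (𝒰.f i ≫ S.hom) ⟶ S := Over.homMk (𝒰.f i)
  have := (h _ (inferInstanceAs (IsAffine (𝒰.X i))) ((X ◁ u) ≫ (X ◁ g) ≫ ev)).unique
    (y₁ := u ≫ g) (y₂ := u ≫ g') (by rw [MonoidalCategory.whiskerLeft_comp, Category.assoc])
    (by rw [MonoidalCategory.whiskerLeft_comp, Category.assoc, hg])
  exact congrArg (fun t => t.left) this

omit [CompactSpace ↥X.left] [IsAffine M.left] [IsAffine Z.left] in
/-- The local maps are compatible. -/
theorem compat_of_affine
    (h : ∀ (S : Over (Spec (CommRingCat.of k))), IsAffine S.left → ∀ f : X ⊗ S ⟶ Z, ∃! g : S ⟶ M, (X ◁ g) ≫ ev = f)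
    {S A B P : Over (Spec (CommRingCat.of k))} (u : A ⟶ S) (v : B ⟶ S) (p : P ⟶ A) (q : P ⟶ B)
    (hpq : p ≫ u = q ≫ v) (f : X ⊗ S ⟶ Z) {a : A ⟶ M} {b : B ⟶ M}
    (ha : (X ◁ a) ≫ ev = (X ◁ u) ≫ f) (hb : (X ◁ b) ≫ ev = (X ◁ v) ≫ f) : p ≫ a = q ≫ b := by
  refine hom_ext_of_affine X ev h P.left.affineCover ?_
  simp only [MonoidalCategory.whiskerLeft_comp, Category.assoc, ha, hb]
  simp only [← MonoidalCategory.whiskerLeft_comp_assoc, hpq]

omit [CompactSpace ↥X.left] [IsAffine M.left] [IsAffine Z.left] in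
/-- A universal property on affines extends to all schemes. -/
theorem existsUnique_of_affine
    (h : ∀ (S : Over (Spec (CommRingCat.of k))), IsAffine S.left → ∀ f : X ⊗ S ⟶ Z, ∃! g : S ⟶ M, (X ◁ g) ≫ ev = f)
    {S : Over (Spec (CommRingCat.of k))} (𝒰 : S.left.OpenCover) [∀ i, IsAffine (𝒰.X i)] (f : X ⊗ S ⟶ Z) :
    ∃! g : S ⟶ M, (X ◁ g) ≫ ev = f := by
  let u : ∀ i, Over.mk (𝒰.f i ≫ S.hom) ⟶ S := fun i => Over.homMk (𝒰.f i)
  choose gi hgi using fun i => (h _ (inferInstanceAs (IsAffine (𝒰.X i))) ((X ◁ u i) ≫ f)).exists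
  have compat : ∀ i j, pullback.fst (𝒰.f i) (𝒰.f j) ≫ (gi i).left =
      pullback.snd (𝒰.f i) (𝒰.f j) ≫ (gi j).left := fun i j => by
    have := compat_of_affine X ev h (P := Over.mk (pullback.fst (𝒰.f i) (𝒰.f j) ≫ 𝒰.f i ≫ S.hom)) (u i) (u j)
      (Over.homMk (pullback.fst (𝒰.f i) (𝒰.f j)) rfl)
      (Over.homMk (pullback.snd (𝒰.f i) (𝒰.f j)) (pullback.condition_assoc _).symm)
      (Over.OverMorphism.ext pullback.condition) f (hgi i) (hgi j)
    exact congrArg (fun t => t.left) this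
  obtain ⟨g₀, hg₀⟩ : ∃ g₀ : S.left ⟶ M.left, ∀ i, 𝒰.f i ≫ g₀ = (gi i).left :=
    ⟨Scheme.Cover.glueMorphisms 𝒰 (fun i => (gi i).left) compat,
      Scheme.Cover.ι_glueMorphisms 𝒰 (fun i => (gi i).left) compat⟩
  have hw : g₀ ≫ M.hom = S.hom := 𝒰.hom_ext _ _ fun i => by
    rw [← Category.assoc, hg₀]
    exact Over.w (gi i)
  let g : S ⟶ M := Over.homMk g₀ hw
  have hug : ∀ i, u i ≫ g = gi i := fun i => Over.OverMorphism.ext (hg₀ i)
  have hgf : (X ◁ g) ≫ ev = f := prod_hom_ext X 𝒰 fun i => by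
    rw [← MonoidalCategory.whiskerLeft_comp_assoc, hug i]
    exact hgi i
  exact ⟨g, hgf, fun g' hg' => hom_ext_of_affine X ev h 𝒰 (hg'.trans hgf.symm)⟩

/-- Representability of morphisms into an affine scheme. -/
theorem main (X Z : Over (Spec (CommRingCat.of k))) [CompactSpace ↥X.left] [IsAffine Z.left]
    [Module.Finite k (Gam X)] :
    ∃ (M : Over (Spec (CommRingCat.of k))) (_ : IsAffine M.left) (ev : X ⊗ M ⟶ Z),
      (∀ (S : Over (Spec (CommRingCat.of k))) (f : X ⊗ S ⟶ Z), ∃! g : S ⟶ M, (X ◁ g) ≫ ev = f) ∧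
      (LocallyOfFiniteType Z.hom → LocallyOfFiniteType M.hom) := by
  obtain ⟨W, _, _, φ, huniv, hft⟩ := exists_repr (k := k) (Gam X) (Gam Z)
  let M : Over (Spec (CommRingCat.of k)) := Over.mk (Spec.map (CommRingCat.ofHom (algebraMap k W)))
  have : IsAffine M.left := inferInstanceAs (IsAffine (Spec _))
  let w : W ≃ₐ[k] Gam M :=
    { (Scheme.ΓSpecIso (CommRingCat.of W)).symm.commRingCatIsoToRingEquiv with
      commutes' := fun r => congrArg (fun t => t r)
        (Scheme.ΓSpecIso_inv_naturality (CommRingCat.ofHom (algebraMap k W))) }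
  obtain ⟨ev, hev⟩ := (gmap_bijective (X ⊗ M) Z).2
    ((theta X M).comp ((Algebra.TensorProduct.map (AlgHom.id k (Gam X)) w.toAlgHom).comp φ))
  have key : ∀ (S : Over (Spec (CommRingCat.of k))) (g : S ⟶ M), gmap ((X ◁ g) ≫ ev) =
      (theta X S).comp ((Algebra.TensorProduct.map (AlgHom.id k (Gam X)) ((gmap g).comp w.toAlgHom)).comp φ) :=
    fun S g => by
      rw [gmap_comp, hev, ← AlgHom.comp_assoc, theta_natural, AlgHom.comp_assoc,
        ← AlgHom.comp_assoc _ _ φ, ← Algebra.TensorProduct.map_comp, AlgHom.comp_id]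
  refine ⟨M, inferInstance, ev, fun S f =>
    existsUnique_of_affine X ev (fun S hS f => ?_) S.left.affineCover f, fun hZ => ?_⟩
  · let θ := AlgEquiv.ofBijective (theta X S) (theta_bijective X S)
    have hθ : ∀ χ : Gam Z →ₐ[k] Gam X ⊗[k] Gam S, θ.symm.toAlgHom.comp ((theta X S).comp χ) = χ :=
      fun χ => AlgHom.ext fun x => θ.symm_apply_apply (χ x)
    obtain ⟨g', hg', hu⟩ := huniv (Gam S) (θ.symm.toAlgHom.comp (gmap f))
    obtain ⟨g, hg⟩ := (gmap_bijective S M).2 (g'.comp w.symm.toAlgHom)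
    have hgw : (gmap g).comp w.toAlgHom = g' := by
      rw [hg]; ext x; simp
    refine ⟨g, (gmap_bijective _ Z).1 ?_, fun g₁ hg₁ => (gmap_bijective S M).1 ?_⟩
    · rw [key, hgw, hg']
      exact AlgHom.ext fun x => θ.apply_symm_apply (gmap f x)
    · have h1 : (gmap g₁).comp w.toAlgHom = g' := hu _ (by
        show _ = θ.symm.toAlgHom.comp (gmap f)
        rw [← hg₁, key, hθ])
      refine AlgHom.ext fun x => ?_
      obtain ⟨y, rfl⟩ := w.surjective x
      exact (DFunLike.congr_fun h1 y).trans (DFunLike.congr_fun hgw y).symm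
  · have hB : Algebra.FiniteType k (Gam Z) := by
      have h1 := (HasRingHomProperty.iff_of_isAffine (P := @LocallyOfFiniteType)).1 hZ
      exact h1.comp (RingHom.FiniteType.of_surjective _
        (Scheme.ΓSpecIso (CommRingCat.of k)).symm.commRingCatIsoToRingEquiv.surjective)
    exact (HasRingHomProperty.Spec_iff (P := @LocallyOfFiniteType)).2 (RingHom.finiteType_algebraMap.2 (hft hB))

end Groth.Agent.HomAff

end
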