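import Mathlib

/-!
# Global functions of products with affine schemes over a field, for quasi-compact schemes
-/

set_option autoImplicit false
set_option linter.style.haveILetI false
set_option backward.isDefEq.respectTransparency false

universe u

open CategoryTheory CategoryTheory.Limits AlgebraicGeometry TopologicalSpace
open scoped TensorProduct

noncomputable section

namespace Groth.Agent.HomAff

variable {X Y S T : Scheme.{u}} {f : T ⟶ S} {g : Y ⟶ X} {iX : X ⟶ S} {iY : Y ⟶ T}
  (H : IsPullback g iY iX f)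
  {US : S.Opens} {UT : T.Opens} {UX : X.Opens} (hUST : UT ≤ f ⁻¹ᵁ US) (hUSX : UX ≤ iX ⁻¹ᵁ US)
  {UY : Y.Opens} (hUY : UY = g ⁻¹ᵁ UX ⊓ iY ⁻¹ᵁ UT)

/-- Over a field base the comparison map is injective for any open, compact or not. -/
theorem mono_pushoutSection_of_field (hUS : IsAffineOpen US) (hUT : IsAffineOpen UT) (hF : IsField Γ(S, US)) :
    Mono (pushoutSection H hUST hUSX hUY) := by
  classical
  letI := hF.toField
  simp_rw [@ConcreteCategory.mono_iff_injective_of_preservesPullback]
  intro x y hxy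
  algebraize [(iX.appLE US UX hUSX).hom, (f.appLE US UT hUST).hom]
  let e : pushout (iX.appLE US UX hUSX) (f.appLE US UT hUST) ≅ .of (Γ(T, UT) ⊗[Γ(S, US)] Γ(X, UX)) :=
    (CommRingCat.isPushout_tensorProduct _ _ _).flip.isoPushout.symm
  let b := Module.Basis.ofVectorSpace Γ(S, US) Γ(T, UT)
  suffices h : ∀ d : Γ(T, UT) ⊗[Γ(S, US)] Γ(X, UX), pushoutSection H hUST hUSX hUY (e.inv d) = 0 → d = 0 by
    have := h (e.hom x - e.hom y) (by
      rw [map_sub, map_sub, Iso.hom_inv_id_apply, Iso.hom_inv_id_apply, hxy, sub_self])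
    exact e.commRingCatIsoToRingEquiv.injective (sub_eq_zero.1 this)
  intro d hd
  refine (TensorProduct.equivFinsuppOfBasisLeft b).injective (Finsupp.ext fun i => ?_)
  rw [map_zero, Finsupp.zero_apply]
  refine X.IsSheaf.section_ext fun z hz => ?_
  obtain ⟨V, hV, hzV, hVU⟩ := exists_isAffineOpen_mem_and_subset (X := X) (x := z) (U := UX) hz
  refine ⟨V, hVU, hzV, ?_⟩
  letI : Algebra Γ(S, US) Γ(X, V) := (iX.appLE US V (le_trans hVU hUSX)).hom.toAlgebra
  let ψ : Γ(X, UX) →ₐ[Γ(S, US)] Γ(X, V) :=
    ⟨(X.presheaf.map (homOfLE hVU).op).hom, fun r => by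
      dsimp [RingHom.algebraMap_toAlgebra]
      simp only [← CommRingCat.comp_apply, Scheme.Hom.appLE_map]⟩
  let eV : pushout (iX.appLE US V (le_trans hVU hUSX)) (f.appLE US UT hUST) ≅ .of (Γ(T, UT) ⊗[Γ(S, US)] Γ(X, V)) :=
    (CommRingCat.isPushout_tensorProduct _ _ _).flip.isoPushout.symm
  haveI := isIso_pushoutSection_of_isAffineOpen H hUST (le_trans hVU hUSX) rfl hUS hUT hV
  let PV := pushoutSection H hUST (UX := V) (le_trans hVU hUSX) (UY := g ⁻¹ᵁ V ⊓ iY ⁻¹ᵁ UT) rfl
  let res : Γ(Y, UY) ⟶ Γ(Y, g ⁻¹ᵁ V ⊓ iY ⁻¹ᵁ UT) := Y.presheaf.map (homOfLE (by subst hUY; gcongr; exact hVU)).op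
  have key : e.inv ≫ pushoutSection H hUST hUSX hUY ≫ res =
      CommRingCat.ofHom (Algebra.TensorProduct.map (AlgHom.id Γ(S, US) Γ(T, UT)) ψ).toRingHom ≫ eV.inv ≫ PV := by
    refine (CommRingCat.isPushout_tensorProduct Γ(S, US) Γ(T, UT) Γ(X, UX)).hom_ext ?_ ?_
    · have h1 : CommRingCat.ofHom (Algebra.TensorProduct.includeLeftRingHom) ≫ e.inv =
          pushout.inr (C := CommRingCat) _ _ :=
        (CommRingCat.isPushout_tensorProduct _ _ _).flip.inr_isoPushout_hom
      have h2 : CommRingCat.ofHom (Algebra.TensorProduct.includeLeftRingHom) ≫ eV.inv =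
          pushout.inr (C := CommRingCat) _ _ :=
        (CommRingCat.isPushout_tensorProduct _ _ _).flip.inr_isoPushout_hom
      rw [reassoc_of% h1, ← Category.assoc (CommRingCat.ofHom _),
        show CommRingCat.ofHom Algebra.TensorProduct.includeLeftRingHom ≫
            CommRingCat.ofHom (Algebra.TensorProduct.map (AlgHom.id Γ(S, US) Γ(T, UT)) ψ).toRingHom =
          CommRingCat.ofHom Algebra.TensorProduct.includeLeftRingHom by ext r; simp,
        reassoc_of% h2]
      simp [res, PV, pushoutSection]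
    · have h1 : CommRingCat.ofHom (Algebra.TensorProduct.includeRight.toRingHom) ≫ e.inv =
          pushout.inl (C := CommRingCat) _ _ :=
        (CommRingCat.isPushout_tensorProduct _ _ _).flip.inl_isoPushout_hom
      have h2 : CommRingCat.ofHom (Algebra.TensorProduct.includeRight.toRingHom) ≫ eV.inv =
          pushout.inl (C := CommRingCat) _ _ :=
        (CommRingCat.isPushout_tensorProduct _ _ _).flip.inl_isoPushout_hom
      rw [reassoc_of% h1, ← Category.assoc (CommRingCat.ofHom _),
        show CommRingCat.ofHom (Algebra.TensorProduct.includeRight.toRingHom) ≫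
            CommRingCat.ofHom (Algebra.TensorProduct.map (AlgHom.id Γ(S, US) Γ(T, UT)) ψ).toRingHom =
          CommRingCat.ofHom ψ.toRingHom ≫ CommRingCat.ofHom Algebra.TensorProduct.includeRight.toRingHom by
            ext r; simp,
        Category.assoc, reassoc_of% h2]
      simp [res, PV, pushoutSection, ψ]
  have h0 : PV (eV.inv (Algebra.TensorProduct.map (AlgHom.id Γ(S, US) Γ(T, UT)) ψ d)) = 0 := by
    have := congrArg (fun φ => φ d) key
    simp only [ConcreteCategory.comp_apply] at this
    rw [hd, map_zero] at this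
    exact this.symm
  have h1 : Algebra.TensorProduct.map (AlgHom.id Γ(S, US) Γ(T, UT)) ψ d = 0 :=
    eV.symm.commRingCatIsoToRingEquiv.injective
      (((asIso PV).commRingCatIsoToRingEquiv.injective (h0.trans (map_zero _).symm)).trans (map_zero _).symm)
  have hnat : ∀ d, TensorProduct.equivFinsuppOfBasisLeft b (Algebra.TensorProduct.map (AlgHom.id Γ(S, US) Γ(T, UT)) ψ d) i =
      ψ (TensorProduct.equivFinsuppOfBasisLeft b d i) := fun d => by
    induction d using TensorProduct.induction_on with
    | zero => simp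
    | tmul r a => simp [map_smul]
    | add p q hp hq => simp [hp, hq]
  have h2 := hnat d
  rw [h1, map_zero, Finsupp.zero_apply] at h2
  rw [map_zero]
  exact h2.symm

/-- Over a field base the comparison map is an isomorphism for a compact open. -/
theorem isIso_pushoutSection_of_field (hUS : IsAffineOpen US) (hUT : IsAffineOpen UT) (hUX : IsCompact (X := X) UX)
    (hF : IsField Γ(S, US)) [Flat f] : IsIso (pushoutSection H hUST hUSX hUY) := by
  obtain ⟨I, hI, e⟩ := isCompact_iff_finite_and_eq_biUnion_affineOpens.mp hUX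
  have hIUX (i : I) : i.1 ≤ UX := by rw [e]; intro i; aesop
  have := hI.to_subtype
  exact isIso_pushoutSection_of_iSup_eq H hUST hUSX hUY (fun i : I ↦ i) (by rwa [iSup_subtype,
    eq_comm]) (fun i ↦ isIso_pushoutSection_of_isAffineOpen _ _ _ _ hUS hUT i.1.2) (fun i j ↦
    mono_pushoutSection_of_field H _ _ _ hUS hUT hF)
    (f.flat_appLE hUS hUT _)

end Groth.Agent.HomAff

end
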